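import Groth.Agent.Lib.AVPRank22.Kernel
import Groth.Agent.Lib.AVDegree22.Count2
import Groth.Agent.Lib.UnivOpenFin5.Normal
import Groth.Agent.Lib.RegLoc.UFD
import Groth.Prelude.Def_ModelsG
import Groth.Agent.S1450
import Mathlib.AlgebraicGeometry.AlgClosed.Basic
import Mathlib.AlgebraicGeometry.Morphisms.QuasiFinite

/-!
# The number of points of a fibre of a finite unramified cover of smooth varieties
-/

set_option maxHeartbeats 400000
set_option autoImplicit false
set_option backward.isDefEq.respectTransparency false

universe u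

open CategoryTheory AlgebraicGeometry Limits

namespace Groth.Agent.Harb29

variable {k : Type u} [Field k] [IsAlgClosed k]

theorem natCard_fibre {X Y : Scheme.{u}} (sX : X ⟶ Spec (CommRingCat.of k)) (π : Y ⟶ X)
    [LocallyOfFiniteType sX] [IsFinite π] [Etale π] (p : X) (hp : IsClosed ({p} : Set X)) :
    Nat.card {q : Y // π.base q = p} = π.finrank p := by
  let sY := π ≫ sX
  haveI : LocallyOfFiniteType sY := inferInstanceAs (LocallyOfFiniteType (π ≫ sX))
  haveI : JacobsonSpace X := LocallyOfFiniteType.jacobsonSpace sX
  haveI : JacobsonSpace Y := LocallyOfFiniteType.jacobsonSpace sY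
  let pt := pointOfClosedPoint sX p hp
  let N : Over (Spec (CommRingCat.of k)) := Over.mk (pullback.snd π pt)
  haveI : IsFinite N.hom := inferInstanceAs (IsFinite (pullback.snd π pt))
  haveI : Etale N.hom := inferInstanceAs (Etale (pullback.snd π pt))
  have h1 := AVDegree22.card_points k N
  have h2 : N.hom.finrank (IsLocalRing.closedPoint k) = π.finrank p :=
    (Scheme.Hom.finrank_pullback_snd π pt _).trans (by rw [pointOfClosedPoint_apply])
  rw [← h2, ← h1]
  have hid : Spec.map (CommRingCat.ofHom (algebraMap k k)) = 𝟙 (Spec (CommRingCat.of k)) := by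
    rw [show CommRingCat.ofHom (algebraMap k k) = 𝟙 (CommRingCat.of k) from rfl, Spec.map_id]
  have hclosed : ∀ q : Y, π.base q = p → IsClosed ({q} : Set Y) := by
    intro q hq
    have hZ : IsClosed (π.base ⁻¹' {p}) := hp.preimage π.continuous
    have hfin : (π.base ⁻¹' {p}).Finite := π.finite_preimage_singleton p
    have hcl := JacobsonSpace.closure_inter_closedPoints_eq_closure hZ.isLocallyClosed
    rw [hZ.closure_eq] at hcl
    have hU : IsClosed (π.base ⁻¹' {p} ∩ closedPoints Y) := by
      rw [← Set.biUnion_of_singleton (π.base ⁻¹' {p} ∩ closedPoints Y)]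
      exact (hfin.subset Set.inter_subset_left).isClosed_biUnion fun z hz => hz.2
    rw [hU.closure_eq] at hcl
    exact (hcl.ge hq).2
  symm
  refine Nat.card_congr ?_
  exact
    { toFun := fun a => ⟨(a.left ≫ pullback.fst π pt) (IsLocalRing.closedPoint k), by
        show ((a.left ≫ pullback.fst π pt) ≫ π) (IsLocalRing.closedPoint k) = p
        rw [Category.assoc, pullback.condition, ← Category.assoc,
          show a.left ≫ pullback.snd π pt = _ from Over.w a]
        exact pointOfClosedPoint_apply sX p hp _⟩
      invFun := fun q => Over.homMk (pullback.lift (pointOfClosedPoint sY q.1 (hclosed q.1 q.2))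
          (𝟙 (Spec (CommRingCat.of k))) (by
            refine Eq.trans ?_ (Category.id_comp pt).symm
            refine ext_of_apply_closedPoint_eq sX ?_ (pointOfClosedPoint_comp sX p hp) ?_
            · rw [Category.assoc]; exact pointOfClosedPoint_comp sY q.1 _
            · rw [Scheme.Hom.comp_apply, pointOfClosedPoint_apply, pointOfClosedPoint_apply]
              exact q.2)) ((pullback.lift_snd _ _ _).trans hid.symm)
      left_inv := fun a => by
        ext1
        refine pullback.hom_ext ?_ (((pullback.lift_snd _ _ _).trans hid.symm).trans (Over.w a).symm)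
        refine (pullback.lift_fst _ _ _).trans (ext_of_apply_closedPoint_eq sY (pointOfClosedPoint_comp sY _ _) ?_ ?_)
        · show (a.left ≫ pullback.fst π pt) ≫ π ≫ sX = 𝟙 _
          rw [Category.assoc, pullback.condition_assoc, pointOfClosedPoint_comp, Category.comp_id,
            show a.left ≫ pullback.snd π pt = _ from Over.w a]
          exact hid
        · exact pointOfClosedPoint_apply sY _ _ _
      right_inv := fun q => Subtype.ext (by
        refine Eq.trans ?_ (pointOfClosedPoint_apply sY q.1 (hclosed q.1 q.2) (IsLocalRing.closedPoint k))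
        exact congrArg (fun g : Spec (CommRingCat.of k) ⟶ Y => g (IsLocalRing.closedPoint k))
          (pullback.lift_fst _ _ _)) }

theorem main (X Y : Scheme.{u}) [X.Over (Spec (CommRingCat.of k))] [Y.Over (Spec (CommRingCat.of k))]
    [IsIntegral X] [IsIntegral Y]
    [LocallyOfFiniteType (X ↘ (Spec (CommRingCat.of k)))]
    (hregX : ∀ x : X, IsRegularLocalRing (X.presheaf.stalk x))
    (π : Y ⟶ X) (hπ : π ≫ (X ↘ (Spec (CommRingCat.of k))) = (Y ↘ (Spec (CommRingCat.of k))))
    [IsFinite π] [Surjective π] [FormallyUnramified π]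
    (e : π.base (genericPoint Y) = genericPoint X) (p : X) (hp : IsClosed ({p} : Set X)) :
    Nat.card {q : Y // π.base q = p} =
      Models.homDegree (X.presheaf.stalkSpecializes (specializes_of_eq e) ≫ π.stalkMap (genericPoint Y)).hom := by
  have hY : ∀ x : X, CAlg2.IsGeomUnibranch (X.presheaf.stalk x) := fun x => by
    haveI := hregX x
    haveI := RegLoc.isDomain (X.presheaf.stalk x)
    haveI := RegLoc.ufd_of_isRegularLocalRing (X.presheaf.stalk x)
    exact UnivOpenFin5.isGeomUnibranch_of_normal _
  haveI : Etale π := (S1450.result π hY ⟨genericPoint Y, e⟩).1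
  haveI : LocallyOfFinitePresentation π := inferInstance
  let X' : Over (Spec (CommRingCat.of k)) := Over.mk (X ↘ (Spec (CommRingCat.of k)))
  let Y' : Over (Spec (CommRingCat.of k)) := Over.mk (Y ↘ (Spec (CommRingCat.of k)))
  haveI : IsIntegral X'.left := ‹IsIntegral X›
  haveI : IsIntegral Y'.left := ‹IsIntegral Y›
  let f : Y' ⟶ X' := Over.homMk π hπ
  haveI : IsFinite f.left := ‹IsFinite π›
  haveI : Flat f.left := inferInstanceAs (Flat π)
  haveI : LocallyOfFinitePresentation f.left := ‹LocallyOfFinitePresentation π›
  haveI : IsDominant f.left := inferInstanceAs (IsDominant π)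
  rw [natCard_fibre (X ↘ (Spec (CommRingCat.of k))) π p hp]
  exact (AVDegree22.finrank_eq_genericPoint f p).trans
    ((AVDegree22.finrank_genericPoint f).trans (AVPRank22.deg_fieldMap f).symm)

end Groth.Agent.Harb29
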